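import Groth.Prelude.Def_SGA3x
import Groth.Agent.FibrewiseCrit.QcDescent
import Groth.Agent.TFun.Artinian

/-!
Essentially free morphisms: flatness, base change, the case of an Artinian base, the affine free case.
-/

universe u

open CategoryTheory Limits AlgebraicGeometry TensorProduct

set_option backward.isDefEq.respectTransparency false
set_option linter.style.haveILetI false

noncomputable section

namespace Groth.Agent.EssFree

theorem projective_appTop_of_isPullback {P X Y Z : Scheme.{u}} {fst : P ⟶ X} {snd : P ⟶ Y} {f : X ⟶ Z} {g : Y ⟶ Z}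
    [IsAffine X] [IsAffine Y] [IsAffine Z] (h : IsPullback fst snd f g)
    (hp : letI := f.appTop.hom.toAlgebra; Module.Projective Γ(Z, ⊤) Γ(X, ⊤)) :
    letI := snd.appTop.hom.toAlgebra; Module.Projective Γ(Y, ⊤) Γ(P, ⊤) := by
  letI := f.appTop.hom.toAlgebra
  letI := g.appTop.hom.toAlgebra
  letI := fst.appTop.hom.toAlgebra
  letI := snd.appTop.hom.toAlgebra
  letI : Algebra Γ(Z, ⊤) Γ(P, ⊤) := (f.appTop ≫ fst.appTop).hom.toAlgebra
  haveI : IsScalarTower Γ(Z, ⊤) Γ(X, ⊤) Γ(P, ⊤) := IsScalarTower.of_algebraMap_eq fun _ => rfl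
  haveI : IsScalarTower Γ(Z, ⊤) Γ(Y, ⊤) Γ(P, ⊤) := IsScalarTower.of_algebraMap_eq fun x => by
    show (f.appTop ≫ fst.appTop) x = (g.appTop ≫ snd.appTop) x
    rw [← Scheme.Hom.comp_appTop, ← Scheme.Hom.comp_appTop, h.w]
  haveI : Module.Projective Γ(Z, ⊤) Γ(X, ⊤) := hp
  have h2 : Algebra.IsPushout Γ(Z, ⊤) Γ(Y, ⊤) Γ(X, ⊤) Γ(P, ⊤) :=
    CommRingCat.isPushout_iff_isPushout.mp (isPushout_appTop_of_isPullback h).flip
  exact Module.Projective.of_equiv (Algebra.IsPushout.equiv Γ(Z, ⊤) Γ(Y, ⊤) Γ(X, ⊤) Γ(P, ⊤)).toLinearEquiv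

theorem isEssentiallyFree_pullback_snd {X S T : Scheme.{u}} (f : X ⟶ S) (h : T ⟶ S) (hf : SGA3x.IsEssentiallyFree f) :
    SGA3x.IsEssentiallyFree (pullback.snd f h) := by
  intro t
  obtain ⟨U, hxU, hU, S', _, g, hgflat, hgsurj, hW⟩ := hf (h t)
  obtain ⟨W, hWa, htW, hWU⟩ : ∃ W : T.Opens, IsAffineOpen W ∧ t ∈ W ∧ W ≤ h ⁻¹ᵁ U := by
    obtain ⟨_, ⟨W, hWa, rfl⟩, htW, hWU⟩ := T.isBasis_affineOpens.exists_subset_of_mem_open
      (show t ∈ h ⁻¹ᵁ U from hxU) (h ⁻¹ᵁ U).isOpen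
    exact ⟨W, hWa, htW, hWU⟩
  haveI : IsAffine W := hWa
  haveI : IsAffine U := hU
  let k : (W : Scheme.{u}) ⟶ U := h.resLE U W hWU
  haveI : IsAffine (pullback g k) := inferInstance
  refine ⟨W, htW, hWa, pullback g k, inferInstance, pullback.snd g k, ?_, ?_, fun x => ?_⟩
  · haveI := hgflat; infer_instance
  · haveI := hgsurj; infer_instance
  let p' := pullback.fst g k
  have hw : (pullback.snd g k ≫ W.ι) ≫ h = p' ≫ g ≫ U.ι := by
    rw [Category.assoc, ← Scheme.Hom.resLE_comp_ι (f := h) hWU, ← pullback.condition_assoc]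
  let a := pullback.fst (pullback.snd f h) (pullback.snd g k ≫ W.ι)
  let b := pullback.snd (pullback.snd f h) (pullback.snd g k ≫ W.ι)
  let m : pullback (pullback.snd f h) (pullback.snd g k ≫ W.ι) ⟶ pullback f (g ≫ U.ι) :=
    pullback.lift (a ≫ pullback.fst f h) (b ≫ p') (by
      rw [Category.assoc, pullback.condition, ← Category.assoc, pullback.condition, Category.assoc, hw, Category.assoc])
  have hm : IsPullback m b (pullback.snd f (g ≫ U.ι)) p' := by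
    have h1 := (IsPullback.of_hasPullback (pullback.snd f h) (pullback.snd g k ≫ W.ι)).paste_horiz
      (IsPullback.of_hasPullback f h)
    refine IsPullback.of_right ?_ (pullback.lift_snd _ _ _) (IsPullback.of_hasPullback f (g ≫ U.ι))
    rw [show m ≫ pullback.fst f (g ≫ U.ι) = a ≫ pullback.fst f h from pullback.lift_fst _ _ _, ← hw]
    exact h1
  obtain ⟨V, hxV, hV, hproj⟩ := hW (m x)
  haveI : IsAffineHom m := MorphismProperty.of_isPullback hm.flip (inferInstance : IsAffineHom p')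
  refine ⟨m ⁻¹ᵁ V, hxV, hV.preimage m, ?_⟩
  haveI : IsAffine V := hV
  have h2 : IsPullback (m ∣_ V) ((m ⁻¹ᵁ V).ι ≫ b) (V.ι ≫ pullback.snd f (g ≫ U.ι)) p' :=
    (isPullback_morphismRestrict m V).paste_vert hm
  exact projective_appTop_of_isPullback h2 hproj

theorem flat_of_isEssentiallyFree {X S : Scheme.{u}} (f : X ⟶ S) (hf : SGA3x.IsEssentiallyFree f) : Flat f := by
  choose U hxU hU hS using hf
  rw [IsZariskiLocalAtTarget.iff_of_iSup_eq_top (P := @Flat) U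
    (eq_top_iff.mpr fun s _ => TopologicalSpace.Opens.mem_iSup.mpr ⟨s, hxU s⟩)]
  intro s
  obtain ⟨S', _, g, hgflat, hgsurj, hW⟩ := hS s
  haveI : IsAffine (U s) := hU s
  haveI : Flat (pullback.snd f (g ≫ (U s).ι)) := by
    choose V hxV hV hproj using hW
    rw [IsZariskiLocalAtSource.iff_of_openCover (P := @Flat)
      ((pullback f (g ≫ (U s).ι)).openCoverOfIsOpenCover V
        (eq_top_iff.mpr fun x _ => TopologicalSpace.Opens.mem_iSup.mpr ⟨x, hxV x⟩))]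
    intro (x : ↥(pullback f (g ≫ (U s).ι)))
    haveI : IsAffine (V x) := hV x
    show Flat ((V x).ι ≫ _)
    rw [HasRingHomProperty.iff_of_isAffine (P := @Flat)]
    letI := ((V x).ι ≫ pullback.snd f (g ≫ (U s).ι)).appTop.hom.toAlgebra
    haveI := hproj x
    exact RingHom.flat_algebraMap_iff.mpr inferInstance
  haveI := hgflat
  haveI := hgsurj
  haveI : Flat (pullback.snd (pullback.snd f (U s).ι) g) := by
    rw [← pullbackLeftPullbackSndIso_hom_snd f (U s).ι g]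
    infer_instance
  haveI : Flat (pullback.snd f (U s).ι) := FibrewiseCrit.flat_of_pullback_snd _ g
  exact (MorphismProperty.arrow_mk_iso_iff @Flat (morphismRestrictEq f (Scheme.Opens.opensRange_ι (U s)))).mp
    ((MorphismProperty.arrow_mk_iso_iff @Flat (morphismRestrictOpensRange f (U s).ι)).mpr inferInstance)

/-- the covering by `S' = U` -/
theorem isEssentiallyFree_of_cover {X S : Scheme.{u}} (f : X ⟶ S)
    (h : ∀ s : S, ∃ (U : S.Opens), s ∈ U ∧ IsAffineOpen U ∧ ∀ x : ↥(f ⁻¹ᵁ U : Scheme.{u}),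
      ∃ V : (f ⁻¹ᵁ U : Scheme.{u}).Opens, x ∈ V ∧ IsAffineOpen V ∧
        (letI := (V.ι ≫ f ∣_ U).appTop.hom.toAlgebra; Module.Projective Γ(↑U, ⊤) Γ(↑V, ⊤))) :
    SGA3x.IsEssentiallyFree f := by
  intro s
  obtain ⟨U, hsU, hU, hV⟩ := h s
  haveI : IsAffine U := hU
  refine ⟨U, hsU, hU, U, hU, 𝟙 _, inferInstance, inferInstance, fun x => ?_⟩
  let e : pullback f (𝟙 _ ≫ U.ι) ≅ (f ⁻¹ᵁ U : Scheme.{u}) :=
    pullback.congrHom rfl (Category.id_comp U.ι) ≪≫ pullbackRestrictIsoRestrict f U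
  obtain ⟨V, hxV, hVa, hproj⟩ := hV (e.hom x)
  haveI : IsAffine V := hVa
  refine ⟨e.hom ⁻¹ᵁ V, hxV, hVa.preimage e.hom, ?_⟩
  have he : e.hom ≫ f ∣_ U = pullback.snd f (𝟙 _ ≫ U.ι) := by
    simp [e, morphismRestrict]
  have h2 : IsPullback (e.hom ∣_ V) ((e.hom ⁻¹ᵁ V).ι ≫ pullback.snd f (𝟙 _ ≫ U.ι)) (V.ι ≫ f ∣_ U) (𝟙 _) :=
    (isPullback_morphismRestrict e.hom V).paste_vert
      (IsPullback.of_horiz_isIso ⟨by rw [Category.comp_id, he]⟩)
  exact projective_appTop_of_isPullback h2 hproj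

/-- affine, with free ring of sections near every point -/
theorem isEssentiallyFree_of_affine_free {X S : Scheme.{u}} (f : X ⟶ S) [IsAffineHom f]
    (h : ∀ s : S, ∃ U : S.affineOpens, s ∈ (U : S.Opens) ∧
      @Module.Projective Γ(S, U) _ Γ(X, f ⁻¹ᵁ U) _ (f.app U).hom.toAlgebra.toModule) :
    SGA3x.IsEssentiallyFree f := by
  refine isEssentiallyFree_of_cover f fun s => ?_
  obtain ⟨U, hsU, hproj⟩ := h s
  refine ⟨U.1, hsU, U.2, fun x => ⟨⊤, trivial, ?_, ?_⟩⟩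
  · haveI : IsAffine (f ⁻¹ᵁ U.1) := U.2.preimage f
    exact isAffineOpen_top _
  letI : Algebra Γ(S, U) Γ(X, f ⁻¹ᵁ U) := (f.app U).hom.toAlgebra
  letI := ((⊤ : (f ⁻¹ᵁ U.1 : Scheme.{u}).Opens).ι ≫ f ∣_ U.1).appTop.hom.toAlgebra
  haveI : IsIso (⊤ : (f ⁻¹ᵁ U.1 : Scheme.{u}).Opens).ι :=
    inferInstanceAs (IsIso (f ⁻¹ᵁ U.1 : Scheme.{u}).topIso.hom)
  let e₁ : Γ(S, U) ≅ Γ(↑U.1, ⊤) := U.1.topIso.symm
  let e₂ : Γ(X, f ⁻¹ᵁ U) ≅ Γ(↑(⊤ : (f ⁻¹ᵁ U.1 : Scheme.{u}).Opens), ⊤) :=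
    (f ⁻¹ᵁ U.1).topIso.symm ≪≫ asIso (⊤ : (f ⁻¹ᵁ U.1 : Scheme.{u}).Opens).ι.appTop
  have hcomm : f.app U ≫ e₂.hom = e₁.hom ≫ ((⊤ : (f ⁻¹ᵁ U.1 : Scheme.{u}).Opens).ι ≫ f ∣_ U.1).appTop := by
    simp [e₁, e₂, Scheme.Hom.app_eq_appLE]
  haveI := RingHomInvPair.of_ringEquiv e₁.commRingCatIsoToRingEquiv
  haveI := RingHomInvPair.symm (e₁.commRingCatIsoToRingEquiv : Γ(S, U) →+* Γ(↑U.1, ⊤))
    (e₁.commRingCatIsoToRingEquiv.symm : Γ(↑U.1, ⊤) →+* Γ(S, U))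
  let e₂' : Γ(X, f ⁻¹ᵁ U) ≃ₛₗ[(e₁.commRingCatIsoToRingEquiv : Γ(S, U) →+* Γ(↑U.1, ⊤))]
      Γ(↑(⊤ : (f ⁻¹ᵁ U.1 : Scheme.{u}).Opens), ⊤) :=
    { e₂.commRingCatIsoToRingEquiv.toAddEquiv with
      map_smul' := fun r z => by
        show e₂.hom ((f.app U r) * z) = _
        rw [map_mul, ← CategoryTheory.comp_apply, hcomm]
        rfl }
  exact Module.Projective.of_equiv e₂'

theorem isEssentiallyFree_of_artinian {A : Type u} [CommRing A] [IsArtinianRing A] {X : Scheme.{u}}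
    (f : X ⟶ Spec (CommRingCat.of A)) [Flat f] : SGA3x.IsEssentiallyFree f := by
  refine isEssentiallyFree_of_cover f fun s => ?_
  let U : (Spec (CommRingCat.of A)).Opens := ⟨{s}, isOpen_discrete _⟩
  obtain ⟨_, ⟨W, hW, rfl⟩, hsW, hWU⟩ := (Spec (CommRingCat.of A)).isBasis_affineOpens.exists_subset_of_mem_open
    (show s ∈ U from rfl) U.isOpen
  obtain rfl : W = U := le_antisymm hWU (by rintro x (rfl : x = s); exact hsW)
  replace hW : IsAffineOpen U := hW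
  haveI : IsAffine U := hW
  refine ⟨U, rfl, hW, fun x => ?_⟩
  obtain ⟨V, hV, hxV⟩ : ∃ V : (f ⁻¹ᵁ U : Scheme.{u}).Opens, IsAffineOpen V ∧ x ∈ V := by
    obtain ⟨_, ⟨V, hV, rfl⟩, hxV, -⟩ := (f ⁻¹ᵁ U : Scheme.{u}).isBasis_affineOpens.exists_subset_of_mem_open
      (Set.mem_univ x) isOpen_univ
    exact ⟨V, hV, hxV⟩
  haveI : IsAffine V := hV
  refine ⟨V, hxV, hV, ?_⟩
  haveI : IsNoetherianRing Γ(↑U, ⊤) := by
    haveI : IsLocallyNoetherian (U : Scheme.{u}) := isLocallyNoetherian_of_isOpenImmersion U.ι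
    exact IsLocallyNoetherian.component_noetherian ⟨⊤, isAffineOpen_top _⟩
  let e : PrimeSpectrum Γ(↑U, ⊤) ≃ₜ ↥(U : Scheme.{u}) := (U : Scheme.{u}).isoSpec.inv.homeomorph
  haveI : Subsingleton (PrimeSpectrum Γ(↑U, ⊤)) :=
    ⟨fun a b => e.injective (Subtype.ext ((e a).2.trans (e b).2.symm))⟩
  haveI : Nonempty (PrimeSpectrum Γ(↑U, ⊤)) := ⟨e.symm ⟨s, rfl⟩⟩
  haveI : Nontrivial Γ(↑U, ⊤) := PrimeSpectrum.nonempty_iff_nontrivial.mp inferInstance
  haveI : IsLocalRing Γ(↑U, ⊤) := IsLocalRing.of_unique_max_ideal (by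
    obtain ⟨m, hm⟩ := Ideal.exists_maximal Γ(↑U, ⊤)
    exact ⟨m, hm, fun n hn => congrArg PrimeSpectrum.asIdeal
      (Subsingleton.elim (⟨n, hn.isPrime⟩ : PrimeSpectrum _) ⟨m, hm.isPrime⟩)⟩)
  haveI : Ring.KrullDimLE 0 Γ(↑U, ⊤) := Ring.KrullDimLE.mk₀ fun p hp => by
    obtain ⟨m, hm, hpm⟩ := Ideal.exists_le_maximal p hp.ne_top
    have hpm' : p = m := congrArg PrimeSpectrum.asIdeal (Subsingleton.elim (⟨p, hp⟩ : PrimeSpectrum _) ⟨m, hm.isPrime⟩)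
    rwa [hpm']
  haveI : IsArtinianRing Γ(↑U, ⊤) := isArtinianRing_iff_isNoetherianRing_krullDimLE_zero.mpr ⟨inferInstance, inferInstance⟩
  letI := (V.ι ≫ f ∣_ U).appTop.hom.toAlgebra
  haveI : Flat (V.ι ≫ f ∣_ U) := by
    haveI : Flat (f ∣_ U) := IsZariskiLocalAtTarget.restrict ‹Flat f› U
    infer_instance
  haveI : Module.Flat Γ(↑U, ⊤) Γ(↑V, ⊤) :=
    RingHom.flat_algebraMap_iff.mp ((HasRingHomProperty.iff_of_isAffine (P := @Flat)).mp ‹Flat (V.ι ≫ f ∣_ U)›)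
  haveI := TFun.free_of_flat (A := Γ(↑U, ⊤)) Γ(↑V, ⊤)
  exact inferInstance

theorem isEssentiallyFree_field {k : Type u} [Field k] {X : Scheme.{u}} (f : X ⟶ Spec (CommRingCat.of k)) :
    SGA3x.IsEssentiallyFree f :=
  haveI : Flat f := by
    rw [IsZariskiLocalAtSource.iff_of_openCover (P := @Flat) X.affineCover]
    intro i
    obtain ⟨φ, hφ⟩ := Spec.map_surjective (X.affineCover.f i ≫ f)
    rw [← hφ, HasRingHomProperty.Spec_iff (P := @Flat)]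
    letI := φ.hom.toAlgebra
    exact RingHom.flat_algebraMap_iff.mpr inferInstance
  isEssentiallyFree_of_artinian f

end Groth.Agent.EssFree
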