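import Groth.Agent.EssFree.Main
import Groth.Agent.EssFree.BaseChange
import Groth.Agent.Transporter.Subgroup

/-!
Loci of points at which an essentially free scheme is sent into a closed subscheme: equalisers, transporters.
-/

universe u

open CategoryTheory Limits MonoidalCategory CartesianMonoidalCategory MonObj GrpObj AlgebraicGeometry

set_option backward.isDefEq.respectTransparency false
set_option linter.style.haveILetI false

noncomputable section

namespace Groth.Agent.EssFree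

variable {S : Scheme.{u}} {G X Y W : Over S}

/-- from the locus over which the preimage of `Y` is everything to the locus in `G` -/
theorem exists_closed_factLocus_of {Q : Prop} (Φ : X ⊗ G ⟶ W) (y : Y ⟶ W)
    (h : ∃ (T : Scheme.{u}) (t : T ⟶ G.left), IsClosedImmersion t ∧ (Q → LocallyOfFinitePresentation t) ∧
      ∀ {S' : Scheme.{u}} (g : S' ⟶ G.left), (∃ z : S' ⟶ T, z ≫ t = g) ↔
        Full (pullback.snd X.hom G.hom) (pullback.snd y.left Φ.left) g) :
    ∃ (T : Over S) (t : T ⟶ G), IsClosedImmersion t.left ∧ (Q → LocallyOfFinitePresentation t.left) ∧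
      ∀ (S' : Over S) (g : S' ⟶ G), (∃ z : S' ⟶ T, z ≫ t = g) ↔
        ∀ (S'' : Over S) (s : S'' ⟶ S') (x : S'' ⟶ X), ∃ x' : S'' ⟶ Y, x' ≫ y = lift x (s ≫ g) ≫ Φ := by
  obtain ⟨T, t, ht, hfp, hT⟩ := h
  refine ⟨Over.mk (t ≫ G.hom), Over.homMk t, ht, hfp, fun S' g => ?_⟩
  constructor
  · rintro ⟨z, hz⟩ S'' s x
    obtain ⟨l, hl⟩ := (hT g.left).mp ⟨z.left, congrArg CommaMorphism.left hz⟩
    let π : S''.left ⟶ pullback (pullback.snd X.hom G.hom) g.left :=
      pullback.lift (lift x (s ≫ g)).left s.left (by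
        show (lift x (s ≫ g) ≫ snd X G).left = (s ≫ g).left
        rw [lift_snd])
    have h2 : (π ≫ l ≫ pullback.fst y.left Φ.left) ≫ y.left = (lift x (s ≫ g)).left ≫ Φ.left := by
      rw [Category.assoc, Category.assoc, pullback.condition, reassoc_of% hl]
      exact pullback.lift_fst_assoc _ _ _ _
    refine ⟨Over.homMk (π ≫ l ≫ pullback.fst y.left Φ.left) ?_, Over.OverMorphism.ext h2⟩
    rw [← Over.w y, ← Category.assoc, h2]
    exact Over.w (lift x (s ≫ g) ≫ Φ)
  · intro h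
    let a := pullback.fst (pullback.snd X.hom G.hom) g.left
    let b := pullback.snd (pullback.snd X.hom G.hom) g.left
    let S'' : Over S := Over.mk (b ≫ S'.hom)
    let s : S'' ⟶ S' := Over.homMk b
    let x : S'' ⟶ X := Over.homMk (a ≫ pullback.fst X.hom G.hom) (by
      show (a ≫ pullback.fst X.hom G.hom) ≫ X.hom = b ≫ S'.hom
      rw [Category.assoc, pullback.condition, ← Category.assoc, pullback.condition, Category.assoc, Over.w g])
    obtain ⟨x', hx'⟩ := h S'' s x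
    have hp : (lift x (s ≫ g)).left = a := by
      apply pullback.hom_ext
      · show (lift x (s ≫ g) ≫ fst X G).left = _
        rw [lift_fst]
        rfl
      · show (lift x (s ≫ g) ≫ snd X G).left = _
        rw [lift_snd]
        exact pullback.condition.symm
    have h3 : x'.left ≫ y.left = a ≫ Φ.left := by
      rw [← hp]
      exact congrArg CommaMorphism.left hx'
    obtain ⟨z, hz⟩ := (hT g.left).mpr ⟨pullback.lift x'.left a h3, pullback.lift_snd _ _ _⟩
    refine ⟨Over.homMk z ?_, Over.OverMorphism.ext hz⟩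
    show z ≫ t ≫ G.hom = S'.hom
    rw [reassoc_of% hz, Over.w g]

/-- the points of `G` at which all of `X` is sent into `Y` -/
theorem exists_closed_factLocus (hX : SGA3x.IsEssentiallyFree X.hom) (Φ : X ⊗ G ⟶ W) (y : Y ⟶ W)
    [IsClosedImmersion y.left] :
    ∃ (T : Over S) (t : T ⟶ G), IsClosedImmersion t.left ∧
      (QuasiCompact X.hom → LocallyOfFinitePresentation y.left → LocallyOfFinitePresentation t.left) ∧
      ∀ (S' : Over S) (g : S' ⟶ G), (∃ z : S' ⟶ T, z ≫ t = g) ↔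
        ∀ (S'' : Over S) (s : S'' ⟶ S') (x : S'' ⟶ X), ∃ x' : S'' ⟶ Y, x' ≫ y = lift x (s ≫ g) ≫ Φ := by
  obtain ⟨T, t, ht, hfp, hT⟩ := exists_closed_factLocus_of (Q := QuasiCompact X.hom ∧ LocallyOfFinitePresentation y.left)
    Φ y (by
      obtain ⟨T, t, ht, hfp, hT⟩ := exists_closed_full (f := pullback.snd X.hom G.hom)
        (j := pullback.snd y.left Φ.left) (isEssentiallyFree_pullback_snd _ _ hX)
      refine ⟨T, t, ht, fun h => hfp ?_ ?_, fun g => hT g⟩
      · haveI := h.1; infer_instance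
      · haveI := h.2; exact inferInstanceAs (LocallyOfFinitePresentation (pullback.snd y.left Φ.left)))
  exact ⟨T, t, ht, fun h1 h2 => hfp ⟨h1, h2⟩, hT⟩

/-- the points of `G` at which two maps out of `X` agree -/
theorem exists_closed_eqLocus (hX : SGA3x.IsEssentiallyFree X.hom) [IsSeparated W.hom] (u v : X ⊗ G ⟶ W) :
    ∃ (T : Over S) (t : T ⟶ G), IsClosedImmersion t.left ∧
      ∀ (S' : Over S) (g : S' ⟶ G), (∃ z : S' ⟶ T, z ≫ t = g) ↔
        ∀ (S'' : Over S) (s : S'' ⟶ S') (x : S'' ⟶ X), lift x (s ≫ g) ≫ u = lift x (s ≫ g) ≫ v := by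
  let y : W ⟶ W ⊗ W := lift (𝟙 W) (𝟙 W)
  haveI : IsClosedImmersion y.left := inferInstanceAs (IsClosedImmersion (pullback.diagonal W.hom))
  obtain ⟨T, t, ht, -, hT⟩ := exists_closed_factLocus hX (lift u v) y
  refine ⟨T, t, ht, fun S' g => (hT S' g).trans
    (forall_congr' fun S'' => forall_congr' fun s => forall_congr' fun x => ?_)⟩
  constructor
  · rintro ⟨x', hx'⟩
    have h1 := congrArg (· ≫ fst W W) hx'
    have h2 := congrArg (· ≫ snd W W) hx'
    simp only [y, Category.assoc, lift_fst, lift_snd, Category.comp_id] at h1 h2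
    exact h1.symm.trans h2
  · exact fun h => ⟨lift x (s ≫ g) ≫ u, by apply CartesianMonoidalCategory.hom_ext <;> simp [y, h]⟩

/-- intersection of two closed subschemes -/
theorem exists_closed_inter {T₁ T₂ : Over S} (t₁ : T₁ ⟶ G) (t₂ : T₂ ⟶ G) [IsClosedImmersion t₁.left]
    [IsClosedImmersion t₂.left] :
    ∃ (T : Over S) (t : T ⟶ G), IsClosedImmersion t.left ∧
      (LocallyOfFinitePresentation t₁.left → LocallyOfFinitePresentation t₂.left → LocallyOfFinitePresentation t.left) ∧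
      ∀ (S' : Over S) (g : S' ⟶ G), (∃ z, z ≫ t = g) ↔ (∃ z, z ≫ t₁ = g) ∧ (∃ z, z ≫ t₂ = g) := by
  let p := pullback.fst t₁.left t₂.left
  let q := pullback.snd t₁.left t₂.left
  refine ⟨Over.mk ((p ≫ t₁.left) ≫ G.hom), Over.homMk (p ≫ t₁.left) rfl,
    (inferInstance : IsClosedImmersion (p ≫ t₁.left)),
    fun h₁ h₂ => by haveI := h₁; haveI := h₂; exact (inferInstance : LocallyOfFinitePresentation (p ≫ t₁.left)),
    fun S' g => ⟨?_, ?_⟩⟩
  · rintro ⟨z, rfl⟩
    refine ⟨⟨Over.homMk (z.left ≫ p) ?_, ?_⟩, Over.homMk (z.left ≫ q) ?_, ?_⟩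
    · rw [← Over.w z, Category.assoc]; exact congrArg (z.left ≫ ·) (by simp)
    · apply Over.OverMorphism.ext; simp
    · rw [← Over.w z, Category.assoc]; exact congrArg (z.left ≫ ·) (by
        show q ≫ T₂.hom = (p ≫ t₁.left) ≫ G.hom
        rw [← Over.w t₂, ← Category.assoc, ← pullback.condition])
    · apply Over.OverMorphism.ext; simp [p, q, pullback.condition]
  · rintro ⟨⟨z₁, h₁⟩, z₂, h₂⟩
    have e₁ := congrArg CommaMorphism.left h₁
    have e₂ := congrArg CommaMorphism.left h₂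
    simp only [Over.comp_left] at e₁ e₂
    refine ⟨Over.homMk (pullback.lift z₁.left z₂.left (e₁.trans e₂.symm)) ?_, Over.OverMorphism.ext ?_⟩
    · show pullback.lift z₁.left z₂.left _ ≫ (p ≫ t₁.left) ≫ G.hom = S'.hom
      simp [p]
    · show pullback.lift z₁.left z₂.left _ ≫ p ≫ t₁.left = g.left
      rw [pullback.lift_fst_assoc, e₁]

variable [GrpObj G]

/-- conjugation of `X`, mapped to `G` by `u`, by the points of `G` -/
def conjMap (u : X ⟶ G) : X ⊗ G ⟶ G := snd X G * (fst X G ≫ u) * (snd X G)⁻¹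

theorem lift_conjMap {S'' : Over S} (u : X ⟶ G) (x : S'' ⟶ X) (g : S'' ⟶ G) :
    lift x g ≫ conjMap u = g * (x ≫ u) * g⁻¹ := by
  simp [conjMap, MonObj.comp_mul, GrpObj.comp_inv]

theorem exists_closed_transporter (hX : SGA3x.IsEssentiallyFree X.hom) (u : X ⟶ G) (y : Y ⟶ G)
    [IsClosedImmersion y.left] :
    ∃ (T : Over S) (t : T ⟶ G), IsClosedImmersion t.left ∧
      (QuasiCompact X.hom → LocallyOfFinitePresentation y.left → LocallyOfFinitePresentation t.left) ∧
      ∀ (S' : Over S) (g : S' ⟶ G), (∃ z : S' ⟶ T, z ≫ t = g) ↔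
        ∀ (S'' : Over S) (s : S'' ⟶ S') (x : S'' ⟶ X),
          ∃ x' : S'' ⟶ Y, (s ≫ g) * (x ≫ u) * (s ≫ g)⁻¹ = x' ≫ y := by
  obtain ⟨T, t, ht, hfp, hT⟩ := exists_closed_factLocus hX (conjMap u) y
  refine ⟨T, t, ht, hfp, fun S' g => (hT S' g).trans ?_⟩
  simp only [lift_conjMap, eq_comm]

theorem exists_closed_transporterEq (hX : SGA3x.IsEssentiallyFree X.hom) [IsSeparated G.hom] (u v : X ⟶ G) :
    ∃ (T : Over S) (t : T ⟶ G), IsClosedImmersion t.left ∧
      ∀ (S' : Over S) (g : S' ⟶ G), (∃ z : S' ⟶ T, z ≫ t = g) ↔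
        ∀ (S'' : Over S) (s : S'' ⟶ S') (x : S'' ⟶ X), (s ≫ g) * (x ≫ u) * (s ≫ g)⁻¹ = x ≫ v := by
  obtain ⟨T, t, ht, hT⟩ := exists_closed_eqLocus hX (conjMap u) (fst X G ≫ v)
  refine ⟨T, t, ht, fun S' g => (hT S' g).trans ?_⟩
  simp only [lift_conjMap, lift_fst_assoc]

theorem exists_closed_strictTransporter {Y' : Over S} (hY : SGA3x.IsEssentiallyFree Y.hom)
    (hY' : SGA3x.IsEssentiallyFree Y'.hom) (y : Y ⟶ G) (y' : Y' ⟶ G) [IsClosedImmersion y.left]
    [IsClosedImmersion y'.left] :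
    ∃ (T : Over S) (t : T ⟶ G), IsClosedImmersion t.left ∧
      ∀ (S' : Over S) (g : S' ⟶ G), (∃ z : S' ⟶ T, z ≫ t = g) ↔
        ((∀ (S'' : Over S) (s : S'' ⟶ S') (x : S'' ⟶ Y'),
          ∃ x' : S'' ⟶ Y, (s ≫ g) * (x ≫ y') * (s ≫ g)⁻¹ = x' ≫ y) ∧
        (∀ (S'' : Over S) (s : S'' ⟶ S') (x' : S'' ⟶ Y),
          ∃ x : S'' ⟶ Y', (s ≫ g)⁻¹ * (x' ≫ y) * (s ≫ g) = x ≫ y')) := by
  obtain ⟨T₁, t₁, ht₁, -, hT₁⟩ := exists_closed_transporter hY' y' y
  obtain ⟨T₂, t₂, ht₂, -, hT₂⟩ := exists_closed_factLocus hY ((snd Y G)⁻¹ * (fst Y G ≫ y) * snd Y G) y'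
  obtain ⟨T, t, ht, -, hT⟩ := exists_closed_inter t₁ t₂
  refine ⟨T, t, ht, fun S' g => (hT S' g).trans (and_congr (hT₁ S' g) ((hT₂ S' g).trans ?_))⟩
  simp only [MonObj.comp_mul, GrpObj.comp_inv, lift_fst_assoc, lift_snd, eq_comm]

end Groth.Agent.EssFree

namespace Groth.Agent.EssFree

theorem isEssentiallyFree_of_isFinite {S X : Scheme.{u}} (f : X ⟶ S) [IsFinite f] [Flat f]
    [LocallyOfFinitePresentation f] : SGA3x.IsEssentiallyFree f := by
  refine isEssentiallyFree_of_affine_free f fun s => ?_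
  obtain ⟨_, ⟨U, hU, rfl⟩, hsU, -⟩ := S.isBasis_affineOpens.exists_subset_of_mem_open (Set.mem_univ s) isOpen_univ
  refine ⟨⟨U, hU⟩, hsU, ?_⟩
  letI := (f.app U).hom.toAlgebra
  have hV := hU.preimage f
  haveI : Module.Flat Γ(S, U) Γ(X, f ⁻¹ᵁ U) :=
    RingHom.flat_algebraMap_iff.mp (by
      have := f.flat_appLE hU hV le_rfl
      rwa [← Scheme.Hom.app_eq_appLE] at this)
  haveI : Algebra.FinitePresentation Γ(S, U) Γ(X, f ⁻¹ᵁ U) := by
    have h : (f.app U).hom.FinitePresentation := by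
      have := f.finitePresentation_appLE hU hV le_rfl
      rwa [← Scheme.Hom.app_eq_appLE] at this
    exact h
  haveI : Module.Finite Γ(S, U) Γ(X, f ⁻¹ᵁ U) := IsFinite.finite_app f U hU
  haveI := Module.FinitePresentation.of_finite_of_finitePresentation Γ(S, U) Γ(X, f ⁻¹ᵁ U)
  exact Module.Flat.projective_of_finitePresentation

end Groth.Agent.EssFree
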