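import Mathlib

/-!
Vanishing of elements of a projective algebra after base change is a closed condition on the base.
-/

universe u

open TensorProduct

noncomputable section

namespace Groth.Agent.EssFree

theorem exists_coord_ideal {A B : Type u} [CommRing A] [CommRing B] [Algebra A B] [Module.Projective A B]
    (I : Ideal B) :
    ∃ J : Ideal A, (I.FG → J.FG) ∧ ∀ (C : Type u) [CommRing C] [Algebra A C],
      I ≤ RingHom.ker (Algebra.TensorProduct.includeLeftRingHom (R := A) (A := B) (B := C)) ↔
        J ≤ RingHom.ker (algebraMap A C) := by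
  classical
  obtain ⟨s, hs⟩ := Module.projective_def.mp (inferInstance : Module.Projective A B)
  have main : ∀ T : Set B, Ideal.span T = I → ∀ (C : Type u) [CommRing C] [Algebra A C],
      I ≤ RingHom.ker (Algebra.TensorProduct.includeLeftRingHom (R := A) (A := B) (B := C)) ↔
        Ideal.span {a | ∃ b ∈ T, ∃ i, s b i = a} ≤ RingHom.ker (algebraMap A C) := by
    intro T hT C _ _
    rw [← hT, Ideal.span_le, Ideal.span_le]
    constructor
    · rintro h _ ⟨b, hb, i, rfl⟩
      have h0 : b ⊗ₜ[A] (1 : C) = 0 := h hb
      have h1 := congrArg (fun z => TensorProduct.lid A C ((((Finsupp.lapply i).comp s)).rTensor C z)) h0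
      simpa [Algebra.algebraMap_eq_smul_one] using h1
    · intro h b hb
      show b ⊗ₜ[A] (1 : C) = 0
      conv_lhs => rw [← hs b]
      rw [Finsupp.linearCombination_apply, Finsupp.sum, TensorProduct.sum_tmul]
      refine Finset.sum_eq_zero fun i _ => ?_
      have h1 : algebraMap A C (s b i) = 0 := h ⟨b, hb, i, rfl⟩
      rw [TensorProduct.smul_tmul, ← Algebra.algebraMap_eq_smul_one, h1, tmul_zero]
  by_cases hI : I.FG
  · obtain ⟨T, hT⟩ := hI
    refine ⟨_, fun _ => ?_, main (T : Set B) hT⟩
    refine ⟨T.biUnion fun b => (s b).support.image (s b), ?_⟩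
    refine le_antisymm (Submodule.span_mono ?_) (Submodule.span_le.mpr ?_)
    · intro a ha
      simp only [Finset.coe_biUnion, Finset.mem_coe, Set.mem_iUnion, Finset.coe_image, Set.mem_image] at ha
      obtain ⟨b, hb, i, -, rfl⟩ := ha
      exact ⟨b, hb, i, rfl⟩
    · rintro a ⟨b, hb, i, rfl⟩
      by_cases h : s b i = 0
      · rw [h]; exact zero_mem _
      refine Submodule.subset_span ?_
      simp only [Finset.coe_biUnion, Finset.mem_coe, Set.mem_iUnion, Finset.coe_image, Set.mem_image]
      exact ⟨b, hb, i, Finsupp.mem_support_iff.mpr h, rfl⟩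
  · exact ⟨_, fun h => absurd h hI, main (I : Set B) (Ideal.span_eq I)⟩

end Groth.Agent.EssFree
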