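import Groth.Agent.EssFree.Alg
import Groth.Agent.FactLocus.Basic
import Groth.Agent.FibrewiseCrit.QcDescent

/-!
The condition that a closed subscheme contains the whole of the pullback of `Z`, and its ideal over a
chart on which `Z` is covered by spectra of projective algebras.
-/

universe u

open CategoryTheory Limits AlgebraicGeometry TensorProduct

set_option backward.isDefEq.respectTransparency false
set_option linter.style.haveILetI false

noncomputable section

namespace Groth.Agent.EssFree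

variable {S Z Y : Scheme.{u}} {f : Z ⟶ S} {j : Y ⟶ Z}

/-- `Z ×_S T` lies in `Y` -/
def Full (f : Z ⟶ S) (j : Y ⟶ Z) {T : Scheme.{u}} (g : T ⟶ S) : Prop :=
  ∃ l : pullback f g ⟶ Y, l ≫ j = pullback.fst f g

theorem exists_lift_of_cover [Mono j] {P : Scheme.{u}} (a : P ⟶ Z) (𝒰 : Scheme.OpenCover.{u} P)
    (h : ∀ i, ∃ ψ, ψ ≫ j = 𝒰.f i ≫ a) : ∃ l, l ≫ j = a := by
  choose ψ hψ using h
  refine ⟨𝒰.glueMorphisms ψ fun x y => ?_, Scheme.Cover.hom_ext 𝒰 _ _ fun i => ?_⟩
  · rw [← cancel_mono j, Category.assoc, Category.assoc, hψ, hψ, pullback.condition_assoc]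
  · rw [← Category.assoc, Scheme.Cover.ι_glueMorphisms, hψ]

theorem full_iff_isIso [Mono j] {T : Scheme.{u}} (g : T ⟶ S) :
    Full f j g ↔ IsIso (pullback.snd j (pullback.fst f g)) := by
  constructor
  · rintro ⟨l, hl⟩
    exact ⟨pullback.lift l (𝟙 _) (by simp [hl]),
      by rw [← cancel_mono (pullback.snd j (pullback.fst f g))]; simp, by simp⟩
  · intro h
    exact ⟨inv (pullback.snd j (pullback.fst f g)) ≫ pullback.fst _ _, by simp [pullback.condition]⟩

theorem Full.comp {T T' : Scheme.{u}} {g : T ⟶ S} (k : T' ⟶ T) (h : Full f j g) : Full f j (k ≫ g) := by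
  obtain ⟨l, hl⟩ := h
  exact ⟨pullback.map f (k ≫ g) f g (𝟙 _) k (𝟙 _) (by simp) (by simp) ≫ l, by simp [hl]⟩

theorem full_of_flat_cover [Mono j] [QuasiCompact j] {T T' : Scheme.{u}} (g : T ⟶ S) (q : T' ⟶ T) [Flat q] [Surjective q]
    (h : Full f j (q ≫ g)) : Full f j g := by
  rw [full_iff_isIso] at h ⊢
  let c := pullback.snd j (pullback.fst f g)
  let e := pullbackLeftPullbackSndIso f g q
  let m := pullback.fst (pullback.snd f g) q
  have hm : e.inv ≫ m ≫ pullback.fst f g = pullback.fst f (q ≫ g) := by simp [e, m]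
  haveI : IsIso (pullback.snd c m) := by
    haveI : IsIso (pullback.snd j (m ≫ pullback.fst f g)) := by
      haveI : IsIso (pullback.snd j ((e.hom ≫ pullback.fst f (q ≫ g)))) := by
        rw [← pullbackLeftPullbackSndIso_inv_snd_snd j (pullback.fst f (q ≫ g)) e.hom]
        infer_instance
      rw [← hm, Iso.hom_inv_id_assoc] at this
      exact this
    rw [← pullbackLeftPullbackSndIso_hom_snd j (pullback.fst f g) m]
    infer_instance
  exact FibrewiseCrit.isIso_of_pullback_snd c m

theorem full_of_cover_family [Mono j] [QuasiCompact j] {T : Scheme.{u}} (g : T ⟶ S) {J : Type u} (X : J → Scheme.{u})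
    (q : ∀ i, X i ⟶ T) [∀ i, Flat (q i)] (hs : ∀ x : T, ∃ i, x ∈ Set.range (q i))
    (h : ∀ i, Full f j (q i ≫ g)) : Full f j g := by
  haveI : Flat (Sigma.desc q) := IsZariskiLocalAtSource.sigmaDesc (P := @Flat) fun i => inferInstance
  haveI : Surjective (Sigma.desc q) := ⟨fun x => by
    obtain ⟨i, y, hy⟩ := hs x
    exact ⟨Sigma.ι X i y, by rw [← Scheme.Hom.comp_apply, Sigma.ι_desc]; exact hy⟩⟩
  refine full_of_flat_cover g (Sigma.desc q) ?_
  choose l hl using h
  let p := pullback.snd f (Sigma.desc q ≫ g)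
  let 𝒰 := (sigmaOpenCover X).pullback₁ p
  have hw : ∀ i, (pullback.fst p (Sigma.ι X i) ≫ pullback.fst f (Sigma.desc q ≫ g)) ≫ f =
      pullback.snd p (Sigma.ι X i) ≫ q i ≫ g := fun i => by
    rw [Category.assoc, pullback.condition, pullback.condition_assoc, Sigma.ι_desc_assoc]
  refine exists_lift_of_cover _ 𝒰 fun i => ⟨pullback.lift _ _ (hw i) ≫ l i, ?_⟩
  rw [Category.assoc, hl, pullback.lift_fst]
  rfl

theorem exists_chart_ideal [IsClosedImmersion j] {A : Type u} [CommRing A] (v : Spec (CommRingCat.of A) ⟶ S)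
    {ι : Type u} (B : ι → Type u) [∀ i, CommRing (B i)] [∀ i, Algebra A (B i)] [∀ i, Module.Projective A (B i)]
    (ρ : ∀ i, Spec (CommRingCat.of (B i)) ⟶ pullback f v) [∀ i, IsOpenImmersion (ρ i)]
    (hρ : ∀ i, ρ i ≫ pullback.snd f v = Spec.map (CommRingCat.ofHom (algebraMap A (B i))))
    (hcov : ∀ x : ↥(pullback f v), ∃ i, x ∈ Set.range (ρ i)) :
    ∃ J : Ideal A, (Finite ι → LocallyOfFinitePresentation j → J.FG) ∧
      ∀ (C : Type u) [CommRing C] (k : A →+* C),
        Full f j (Spec.map (CommRingCat.ofHom k) ≫ v) ↔ J ≤ RingHom.ker k := by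
  classical
  have hpiece : ∀ i, ∃ I : Ideal (B i), (LocallyOfFinitePresentation j → I.FG) ∧ ∀ (C : Type u) [CommRing C]
      (k : B i →+* C), (∃ z, z ≫ pullback.snd j (ρ i ≫ pullback.fst f v) = Spec.map (CommRingCat.ofHom k)) ↔
        I ≤ RingHom.ker k := fun i => by
    obtain ⟨I, hfg, hI⟩ := FactLocus.exists_ker_criterion (pullback.snd j (ρ i ≫ pullback.fst f v))
    exact ⟨I, fun h => hfg inferInstance, hI⟩
  choose I hIfg hI using hpiece
  choose J hJfg hJ using fun i => exists_coord_ideal (A := A) (I i)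
  refine ⟨⨆ i, J i, fun _ hj => Submodule.fg_iSup _ fun i => hJfg i (hIfg i hj), fun C _ k => ?_⟩
  letI := k.toAlgebra
  rw [iSup_le_iff]
  simp_rw [show RingHom.ker k = RingHom.ker (algebraMap A C) from rfl, ← hJ]
  have hcomm : ∀ i, Spec.map (CommRingCat.ofHom (Algebra.TensorProduct.includeLeftRingHom (R := A) (A := B i) (B := C))) ≫
      Spec.map (CommRingCat.ofHom (algebraMap A (B i))) =
      Spec.map (CommRingCat.ofHom (Algebra.TensorProduct.includeRight : C →ₐ[A] B i ⊗[A] C).toRingHom) ≫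
        Spec.map (CommRingCat.ofHom k) := fun i => by
    rw [← Spec.map_comp, ← Spec.map_comp, ← CommRingCat.ofHom_comp, ← CommRingCat.ofHom_comp]
    congr 2
    exact RingHom.ext fun a => ((Algebra.TensorProduct.includeLeft : B i →ₐ[A] B i ⊗[A] C).commutes a).trans
      ((Algebra.TensorProduct.includeRight : C →ₐ[A] B i ⊗[A] C).commutes a).symm
  constructor
  · rintro ⟨l, hl⟩ i
    rw [← hI]
    let π : Spec (CommRingCat.of (B i ⊗[A] C)) ⟶ pullback f (Spec.map (CommRingCat.ofHom k) ≫ v) :=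
      pullback.lift (Spec.map (CommRingCat.ofHom Algebra.TensorProduct.includeLeftRingHom) ≫ ρ i ≫ pullback.fst f v)
        (Spec.map (CommRingCat.ofHom (Algebra.TensorProduct.includeRight : C →ₐ[A] B i ⊗[A] C).toRingHom)) (by
        rw [Category.assoc, Category.assoc, pullback.condition, reassoc_of% (hρ i), reassoc_of% (hcomm i)])
    refine ⟨pullback.lift (π ≫ l) (Spec.map (CommRingCat.ofHom Algebra.TensorProduct.includeLeftRingHom)) ?_,
      pullback.lift_snd _ _ _⟩
    rw [Category.assoc, hl, pullback.lift_fst]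
  · intro h
    have hz : ∀ i, ∃ z, z ≫ pullback.snd j (ρ i ≫ pullback.fst f v) =
        Spec.map (CommRingCat.ofHom (Algebra.TensorProduct.includeLeftRingHom (R := A) (A := B i) (B := C))) :=
      fun i => (hI i _ _).mpr (h i)
    choose z hz using hz
    let 𝒱 : (pullback f v).OpenCover :=
      Scheme.Cover.mkOfCovers ι (fun i => Spec (CommRingCat.of (B i))) ρ hcov inferInstance
    let m : pullback f (Spec.map (CommRingCat.ofHom k) ≫ v) ⟶ pullback f v :=
      pullback.map _ _ _ _ (𝟙 _) (Spec.map (CommRingCat.ofHom k)) (𝟙 _) (by simp) (by simp)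
    let 𝒰 := 𝒱.pullback₁ m
    have hw : ∀ i, pullback.snd m (ρ i) ≫ Spec.map (CommRingCat.ofHom (algebraMap A (B i))) =
        (pullback.fst m (ρ i) ≫ pullback.snd f _) ≫ Spec.map (CommRingCat.ofHom (algebraMap A C)) := fun i => by
      rw [← hρ, ← pullback.condition_assoc, Category.assoc]
      simp [m]
      rfl
    let w : ∀ i, pullback m (ρ i) ⟶ Spec (CommRingCat.of (B i ⊗[A] C)) := fun i =>
      pullback.lift _ _ (hw i) ≫ (pullbackSpecIso A (B i) C).hom
    have hwl : ∀ i, w i ≫ Spec.map (CommRingCat.ofHom (Algebra.TensorProduct.includeLeftRingHom (R := A) (A := B i) (B := C))) =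
        pullback.snd m (ρ i) := fun i => by
      simp only [w, Category.assoc]
      erw [pullbackSpecIso_hom_fst]
      exact pullback.lift_fst _ _ _
    have hm : m ≫ pullback.fst f v = pullback.fst f _ := by simp [m]
    have hψ : ∀ i, (w i ≫ z i ≫ pullback.fst _ _) ≫ j = pullback.fst m (ρ i) ≫ pullback.fst f _ := fun i => by
      simp only [Category.assoc]
      rw [pullback.condition, reassoc_of% (hz i), reassoc_of% (hwl i), ← pullback.condition_assoc, hm]
    exact exists_lift_of_cover _ 𝒰 fun i => ⟨w i ≫ z i ≫ pullback.fst _ _, hψ i⟩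

end Groth.Agent.EssFree
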