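import Groth.Agent.EssFree.Crit
import Groth.Agent.Transporter.EqLocus
import Groth.Prelude.Def_SGA3x

/-!
The Weil restriction of a closed immersion along an essentially free morphism is a closed subscheme.
-/

universe u

open CategoryTheory Limits AlgebraicGeometry TensorProduct

set_option backward.isDefEq.respectTransparency false
set_option linter.style.haveILetI false

noncomputable section

namespace Groth.Agent.EssFree

variable {S Z Y : Scheme.{u}} {f : Z ⟶ S} {j : Y ⟶ Z}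

/-- near every point of every affine open there is a flat chart with an ideal for the condition,
finitely generated if `Q` holds -/
def FlatCharts (f : Z ⟶ S) (j : Y ⟶ Z) (Q : Prop) : Prop :=
  ∀ (U : S.affineOpens) (x : S), x ∈ U.1 → ∃ (A : CommRingCat.{u}) (φ : Γ(S, U) ⟶ A), φ.hom.Flat ∧
    (∃ D : S.Opens, x ∈ D ∧ (D : Set S) ⊆ Set.range (Spec.map φ ≫ U.2.fromSpec)) ∧
    ∃ J : Ideal A, (Q → J.FG) ∧ ∀ (C : Type u) [CommRing C] (k : A →+* C),
      Full f j (Spec.map (CommRingCat.ofHom k) ≫ Spec.map φ ≫ U.2.fromSpec) ↔ J ≤ RingHom.ker k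

/-- near any point of an affine open there is a flat chart with an ideal for the condition -/
theorem exists_flat_chart [IsClosedImmersion j] (hf : SGA3x.IsEssentiallyFree f) (U : S.affineOpens) (x : S)
    (hx : x ∈ U.1) :
    ∃ (A : CommRingCat.{u}) (φ : Γ(S, U) ⟶ A), φ.hom.Flat ∧
      (∃ D : S.Opens, x ∈ D ∧ (D : Set S) ⊆ Set.range (Spec.map φ ≫ U.2.fromSpec)) ∧
      ∃ J : Ideal A, (QuasiCompact f → LocallyOfFinitePresentation j → J.FG) ∧
        ∀ (C : Type u) [CommRing C] (k : A →+* C),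
          Full f j (Spec.map (CommRingCat.ofHom k) ≫ Spec.map φ ≫ U.2.fromSpec) ↔ J ≤ RingHom.ker k := by
  classical
  obtain ⟨U₀, hx₀, hU₀, S', _, g, hgflat, hgsurj, hW⟩ := hf x
  haveI := hgflat
  haveI := hgsurj
  haveI : IsAffine U₀ := hU₀
  choose V hxV hV hproj using hW
  let v' : Spec Γ(S', ⊤) ⟶ S := S'.isoSpec.inv ≫ g ≫ U₀.ι
  let e : pullback f (g ≫ U₀.ι) ⟶ pullback f v' :=
    pullback.map _ _ _ _ (𝟙 _) S'.isoSpec.hom (𝟙 _) (by simp) (by simp [v'])
  haveI : IsIso e := inferInstance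
  haveI : ∀ p, IsAffine (V p) := hV
  letI : ∀ p : ↥(pullback f (g ≫ U₀.ι)), Algebra Γ(S', ⊤) Γ(↑(V p), ⊤) := fun p =>
    ((V p).ι ≫ pullback.snd f (g ≫ U₀.ι)).appTop.hom.toAlgebra
  haveI : ∀ p, Module.Projective Γ(S', ⊤) Γ(↑(V p), ⊤) := hproj
  let ρ : ∀ p, Spec (CommRingCat.of Γ(↑(V p), ⊤)) ⟶ pullback f v' := fun p =>
    (V p : Scheme.{u}).isoSpec.inv ≫ (V p).ι ≫ e
  have hρ : ∀ p, ρ p ≫ pullback.snd f v' =
      Spec.map (CommRingCat.ofHom (algebraMap Γ(S', ⊤) Γ(↑(V p), ⊤))) := fun p => by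
    show _ = Spec.map ((V p).ι ≫ pullback.snd f (g ≫ U₀.ι)).appTop
    rw [← cancel_epi (V p : Scheme.{u}).isoSpec.hom, Scheme.isoSpec_hom_naturality]
    simp [ρ, e]
  have hcov : ∀ y : ↥(pullback f v'), ∃ p, y ∈ Set.range (ρ p) := fun y => by
    refine ⟨inv e y, (V _ : Scheme.{u}).isoSpec.hom ⟨inv e y, hxV _⟩, ?_⟩
    have key : (V (inv e y) : Scheme.{u}).isoSpec.hom ≫ ρ (inv e y) = (V _).ι ≫ e := by simp [ρ]
    refine (congrArg (fun φ => φ ⟨inv e y, hxV _⟩) key).trans ?_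
    show e (inv e y) = y
    rw [← Scheme.Hom.comp_apply, IsIso.inv_hom_id]
    rfl
  obtain ⟨J, -, hJ⟩ := exists_chart_ideal (j := j) v' _ ρ hρ hcov
  have hJfg : QuasiCompact f → LocallyOfFinitePresentation j → J.FG := fun hqc hj => by
    haveI := hqc
    haveI : CompactSpace ↥(pullback f v') := QuasiCompact.compactSpace_of_compactSpace (pullback.snd f v')
    obtain ⟨t, ht⟩ := isCompact_univ.elim_finite_subcover (fun p => Set.range (ρ p))
      (fun p => (ρ p).isOpenEmbedding.isOpen_range) (fun y _ => Set.mem_iUnion.mpr (hcov y))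
    obtain ⟨J₂, hfg, hJ₂⟩ := exists_chart_ideal (j := j) v' (ι := t) _ (fun p => ρ p.1) (fun p => hρ p.1) (fun y => by
      obtain ⟨p, hp⟩ := Set.mem_iUnion.mp (ht (Set.mem_univ y))
      obtain ⟨hpt, hy⟩ := Set.mem_iUnion.mp hp
      exact ⟨⟨p, hpt⟩, hy⟩)
    have : J = J₂ := le_antisymm
      (Ideal.mk_ker (I := J₂) ▸ (hJ _ _).mp ((hJ₂ _ (Ideal.Quotient.mk J₂)).mpr Ideal.mk_ker.ge))
      (Ideal.mk_ker (I := J) ▸ (hJ₂ _ _).mp ((hJ _ (Ideal.Quotient.mk J)).mpr Ideal.mk_ker.ge))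
    rw [this]
    exact hfg inferInstance hj
  obtain ⟨h, g₀, hD, hxD⟩ := exists_basicOpen_le_affine_inter U.2 hU₀ x ⟨hx, hx₀⟩
  let φ₀ : Γ(S, U₀) ⟶ Γ(S', ⊤) := Spec.preimage (S'.isoSpec.inv ≫ g ≫ hU₀.isoSpec.hom)
  have hφ₀ : Spec.map φ₀ ≫ hU₀.fromSpec = v' := by
    rw [← hU₀.isoSpec_inv_ι, Spec.map_preimage]
    simp [v']
  let r : Γ(S', ⊤) := φ₀.hom g₀
  let loc : Spec (CommRingCat.of (Localization.Away r)) ⟶ Spec Γ(S', ⊤) :=
    Spec.map (CommRingCat.ofHom (algebraMap Γ(S', ⊤) (Localization.Away r)))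
  have hloc : ∀ y : ↥(Spec Γ(S', ⊤)), (v' y ∈ S.basicOpen g₀) ↔ y ∈ Set.range loc := fun y => by
    rw [← hφ₀, Scheme.Hom.comp_apply]
    show Spec.map φ₀ y ∈ hU₀.fromSpec ⁻¹ᵁ S.basicOpen g₀ ↔ _
    rw [hU₀.fromSpec_preimage_basicOpen]
    exact (Set.ext_iff.mp (PrimeSpectrum.localization_away_comap_range (Localization.Away r) r) y).symm
  haveI : IsOpenImmersion loc :=
    inferInstanceAs (IsOpenImmersion (Spec.map (CommRingCat.ofHom (algebraMap Γ(S', ⊤) (Localization.Away r)))))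
  let ψ : Spec (CommRingCat.of (Localization.Away r)) ⟶ Spec Γ(S, U) := IsOpenImmersion.lift U.2.fromSpec (loc ≫ v') (by
    rintro _ ⟨y, rfl⟩
    rw [U.2.range_fromSpec, Scheme.Hom.comp_apply]
    exact S.basicOpen_le h (hD.ge ((hloc _).mpr ⟨y, rfl⟩)))
  have hψ : Spec.map (Spec.preimage ψ) ≫ U.2.fromSpec = loc ≫ v' := by
    rw [Spec.map_preimage, IsOpenImmersion.lift_fac]
  haveI : Flat ψ := MorphismProperty.of_postcomp (W := @Flat) (W' := @IsOpenImmersion) ψ U.2.fromSpec inferInstance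
    (by rw [IsOpenImmersion.lift_fac]; infer_instance)
  refine ⟨CommRingCat.of (Localization.Away r), Spec.preimage ψ, ?_, ⟨S.basicOpen g₀, hD ▸ hxD, ?_⟩,
    J.map (algebraMap Γ(S', ⊤) (Localization.Away r)), fun h1 h2 => (hJfg h1 h2).map _, fun C _ k => ?_⟩
  · rw [← HasRingHomProperty.Spec_iff (P := @Flat), Spec.map_preimage]
    infer_instance
  · intro z hz
    rw [hψ]
    obtain ⟨s', hs'⟩ := g.surjective ⟨z, S.basicOpen_le g₀ hz⟩
    have hv : v' (S'.isoSpec.hom s') = z := by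
      simp only [v', ← Scheme.Hom.comp_apply]
      rw [Iso.hom_inv_id_assoc, Scheme.Hom.comp_apply, hs']
      rfl
    obtain ⟨y, hy⟩ := (hloc _).mp (hv.symm ▸ hz)
    exact ⟨y, by rw [Scheme.Hom.comp_apply, hy, hv]⟩
  · rw [hψ, ← Category.assoc, ← Spec.map_comp, ← CommRingCat.ofHom_comp, Ideal.map_le_iff_le_comap]
    exact hJ C _

/-- on an affine open the condition is given by an ideal -/
theorem exists_affine_ideal [Mono j] [QuasiCompact j] (Q : Prop) (hchart : FlatCharts f j Q) (U : S.affineOpens) :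
    ∃ I : Ideal Γ(S, U), (Q → I.FG) ∧
      ∀ (C : CommRingCat.{u}) (φ : Γ(S, U) ⟶ C),
        Full f j (Spec.map φ ≫ U.2.fromSpec) ↔ I ≤ RingHom.ker φ.hom := by
  classical
  choose A φ hflat hD hJ using fun x : U.1 => hchart U x.1 x.2
  choose D hxD hDr using hD
  choose c hcfg hc using hJ
  obtain ⟨s, hs⟩ := U.2.isCompact.elim_finite_subcover (fun x => (D x : Set S)) (fun x => (D x).isOpen)
    (fun x hx => Set.mem_iUnion.mpr ⟨⟨x, hx⟩, hxD _⟩)
  letI : ∀ q : s, Algebra Γ(S, U) (A q.1) := fun q => (φ q.1).hom.toAlgebra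
  haveI : ∀ q : s, Module.Flat Γ(S, U) (A q.1) := fun q => RingHom.flat_algebraMap_iff.mp (hflat q.1)
  let P : ∀ {C : Type u} [CommRing C], (Γ(S, U) →+* C) → Prop :=
    fun {C} _ ψ => Full f j (Spec.map (CommRingCat.ofHom ψ) ≫ U.2.fromSpec)
  have hsurj : ∀ p : PrimeSpectrum Γ(S, U), ∃ (q : s) (r : PrimeSpectrum (A q.1)),
      PrimeSpectrum.comap (algebraMap Γ(S, U) (A q.1)) r = p := by
    intro p
    obtain ⟨q, hq⟩ := Set.mem_iUnion.mp (hs (U.2.range_fromSpec.le ⟨p, rfl⟩))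
    obtain ⟨hqs, hxq⟩ := Set.mem_iUnion.mp hq
    obtain ⟨r, hr⟩ := hDr q hxq
    exact ⟨⟨q, hqs⟩, r, U.2.fromSpec.isOpenEmbedding.injective hr⟩
  obtain ⟨I, hI, hIfg⟩ := Transporter.exists_descended_ideal (fun q : s => A q.1) hsurj P
    (fun {C D} _ _ ψ g hψ => by
      have := hψ.comp (Spec.map (CommRingCat.ofHom g))
      rwa [← Category.assoc, ← Spec.map_comp, ← CommRingCat.ofHom_comp] at this)
    (fun {C} _ _ hC => by
      haveI : ∀ q : s, Flat (Spec.map (CommRingCat.ofHom (Algebra.TensorProduct.includeRight :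
          C →ₐ[Γ(S, U)] TensorProduct Γ(S, U) (A q.1) C).toRingHom)) := fun q => by
        rw [HasRingHomProperty.Spec_iff (P := @Flat)]
        have h1 : (algebraMap C (TensorProduct Γ(S, U) C (A q.1))).Flat :=
          RingHom.flat_algebraMap_iff.mpr inferInstance
        exact RingHom.Flat.respectsIso.1 _ (Algebra.TensorProduct.comm Γ(S, U) C (A q.1)).toRingEquiv h1
      refine full_of_cover_family _ (fun q : s => Spec (CommRingCat.of (TensorProduct Γ(S, U) (A q.1) C)))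
        (fun q => Spec.map (CommRingCat.ofHom (Algebra.TensorProduct.includeRight :
          C →ₐ[Γ(S, U)] TensorProduct Γ(S, U) (A q.1) C).toRingHom)) ?_ fun q => ?_
      · intro x
        obtain ⟨q, r, hr⟩ := hsurj (PrimeSpectrum.comap (algebraMap Γ(S, U) C) x)
        obtain ⟨z, -, hz⟩ := Scheme.Pullback.exists_preimage_pullback
          (f := Spec.map (CommRingCat.ofHom (algebraMap Γ(S, U) (A q.1))))
          (g := Spec.map (CommRingCat.ofHom (algebraMap Γ(S, U) C))) r x hr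
        refine ⟨q, (pullbackSpecIso Γ(S, U) (A q.1) C).hom z, ?_⟩
        rw [← Scheme.Hom.comp_apply]
        erw [pullbackSpecIso_hom_snd]
        exact hz
      · rw [← Category.assoc, ← Spec.map_comp, ← CommRingCat.ofHom_comp]
        convert hC q using 4
        exact RingHom.ext fun a => (Algebra.TensorProduct.includeRight :
          C →ₐ[Γ(S, U)] TensorProduct Γ(S, U) (A q.1) C).commutes a)
    (fun q => c q.1) (fun q {C} _ g => by
      show Full f j (Spec.map (CommRingCat.ofHom (g.comp (algebraMap _ _))) ≫ U.2.fromSpec) ↔ _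
      rw [CommRingCat.ofHom_comp, Spec.map_comp, Category.assoc]
      exact hc q.1 C g)
  exact ⟨I, fun h => hIfg fun q => hcfg q.1 h, fun C ψ => hI ψ.hom⟩

/-- the points over which `Z` lies in `Y` form a closed subscheme, as soon as there are flat charts -/
theorem exists_closed_full_of_charts [Mono j] [QuasiCompact j] (Q : Prop) (hchart : FlatCharts f j Q) :
    ∃ (T : Scheme.{u}) (t : T ⟶ S), IsClosedImmersion t ∧ (Q → LocallyOfFinitePresentation t) ∧
      ∀ {S' : Scheme.{u}} (g : S' ⟶ S), (∃ z : S' ⟶ T, z ≫ t = g) ↔ Full f j g := by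
  choose I hIfg hI using exists_affine_ideal Q hchart
  obtain ⟨T, t, ht, hT⟩ := CenterRep.exists_closed_of_affine (T := S) (fun {S'} g => Full f j g)
    (fun h g hg => hg.comp h)
    (fun {S'} g 𝒰 hg => full_of_cover_family g 𝒰.X 𝒰.f (fun x => ⟨_, 𝒰.covers x⟩) hg)
    (fun U => ⟨I U, hI U⟩)
  haveI := ht
  exact ⟨T, t, ht, fun h =>
    Transporter.locallyOfFinitePresentation_of_fg t fun U => ⟨I U, hIfg U h, fun C φ => (hT _).trans (hI U C φ)⟩,
    fun g => hT g⟩

/-- the points over which `Z` lies in `Y` form a closed subscheme -/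
theorem exists_closed_full [IsClosedImmersion j] (hf : SGA3x.IsEssentiallyFree f) :
    ∃ (T : Scheme.{u}) (t : T ⟶ S), IsClosedImmersion t ∧
      (QuasiCompact f → LocallyOfFinitePresentation j → LocallyOfFinitePresentation t) ∧
      ∀ {S' : Scheme.{u}} (g : S' ⟶ S), (∃ z : S' ⟶ T, z ≫ t = g) ↔ Full f j g := by
  obtain ⟨T, t, ht, hfp, hT⟩ := exists_closed_full_of_charts (f := f) (j := j)
    (QuasiCompact f ∧ LocallyOfFinitePresentation j) fun U x hx => by
      obtain ⟨A, φ, h1, h2, J, hJfg, hJ⟩ := exists_flat_chart (j := j) hf U x hx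
      exact ⟨A, φ, h1, h2, J, fun h => hJfg h.1 h.2, hJ⟩
  exact ⟨T, t, ht, fun h1 h2 => hfp ⟨h1, h2⟩, fun g => hT g⟩

end Groth.Agent.EssFree
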